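import Mathlib.CategoryTheory.Abelian.RightDerived
import Mathlib.Algebra.Homology.ShortComplex.ExactFunctor
import Mathlib.Algebra.Homology.ShortComplex.HomologicalComplex

/-!
# Effaceable cohomological δ-functors are right derived functors
-/

universe v₁ v₂ u₁ u₂

open CategoryTheory Limits

namespace Groth.Agent.UnivDelta

variable (C : Type u₁) [Category.{v₁} C] [Abelian C] (D : Type u₂) [Category.{v₂} D] [Abelian D]

/-- A cohomological δ-functor vanishing on injectives in positive degrees. -/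
structure DeltaFunctor where
  /-- the functors -/
  F : ℕ → C ⥤ D
  additive : ∀ n, (F n).Additive
  /-- the connecting morphisms -/
  δ : ∀ {S : ShortComplex C} (_ : S.ShortExact) (n : ℕ), (F n).obj S.X₃ ⟶ (F (n + 1)).obj S.X₁
  mono₁ : ∀ {S : ShortComplex C} (_ : S.ShortExact), Mono ((F 0).map S.f)
  exact₂ : ∀ {S : ShortComplex C} (_ : S.ShortExact) (n : ℕ)
    (w : (F n).map S.f ≫ (F n).map S.g = 0), (ShortComplex.mk _ _ w).Exact
  map_g_δ : ∀ {S : ShortComplex C} (hS : S.ShortExact) (n : ℕ), (F n).map S.g ≫ δ hS n = 0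
  exact₃ : ∀ {S : ShortComplex C} (hS : S.ShortExact) (n : ℕ),
    (ShortComplex.mk _ _ (map_g_δ hS n)).Exact
  δ_map_f : ∀ {S : ShortComplex C} (hS : S.ShortExact) (n : ℕ), δ hS n ≫ (F (n + 1)).map S.f = 0
  exact₁ : ∀ {S : ShortComplex C} (hS : S.ShortExact) (n : ℕ),
    (ShortComplex.mk _ _ (δ_map_f hS n)).Exact
  δ_nat : ∀ {S S' : ShortComplex C} (hS : S.ShortExact) (hS' : S'.ShortExact) (φ : S ⟶ S')
    (n : ℕ), (F n).map φ.τ₃ ≫ δ hS' n = δ hS n ≫ (F (n + 1)).map φ.τ₁
  isZero : ∀ (J : C) [Injective J] (n : ℕ), IsZero ((F (n + 1)).obj J)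

variable {C D}

noncomputable section

/-- The short complex `Z^k → I^k → Z^{k+1}`. -/
def cycSES (L : CochainComplex C ℕ) (k : ℕ) : ShortComplex C :=
  ShortComplex.mk (L.iCycles k) (L.toCycles k (k + 1))
    (by rw [← cancel_mono (L.iCycles (k + 1)), Category.assoc, HomologicalComplex.toCycles_i,
      HomologicalComplex.iCycles_d, zero_comp])

/-- The kernel property of cycles. -/
def cycIsKernel (L : CochainComplex C ℕ) (k : ℕ) :
    IsLimit (KernelFork.ofι (L.iCycles k) (L.iCycles_d k (k + 1))) :=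
  L.cyclesIsKernel k (k + 1) (by simp)

lemma cycSES_shortExact {M : C} (I : InjectiveResolution M) (k : ℕ) :
    (cycSES I.cocomplex k).ShortExact where
  mono_f := by dsimp [cycSES]; infer_instance
  exact := by
    apply ShortComplex.exact_of_f_is_kernel
    exact isKernelOfComp (I.cocomplex.iCycles (k + 1)) (I.cocomplex.d k (k + 1))
      (cycIsKernel I.cocomplex k) (cycSES I.cocomplex k).zero (I.cocomplex.toCycles_i k (k + 1))
  epi_g := by
    dsimp [cycSES]
    have hz : I.cocomplex.homologyπ (k + 1) = 0 :=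
      ((HomologicalComplex.exactAt_iff_isZero_homology _ _).mp
        (I.cocomplex_exactAt_succ k)).eq_of_tgt _ _
    refine Preadditive.epi_of_cancel_zero _ fun g hg => ?_
    obtain ⟨l, hl⟩ := CokernelCofork.IsColimit.desc'
      (I.cocomplex.homologyIsCokernel k (k + 1) (by simp)) g hg
    rw [← hl]
    change I.cocomplex.homologyπ (k + 1) ≫ l = 0
    rw [hz, zero_comp]

/-- Maps of complexes induce maps of the short complexes of cycles. -/
def cycSESMap {L L' : CochainComplex C ℕ} (φ : L ⟶ L') (k : ℕ) : cycSES L k ⟶ cycSES L' k where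
  τ₁ := HomologicalComplex.cyclesMap φ k
  τ₂ := φ.f k
  τ₃ := HomologicalComplex.cyclesMap φ (k + 1)
  comm₁₂ := by simp [cycSES]
  comm₂₃ := by simp [cycSES, ← cancel_mono (L'.iCycles (k + 1))]

variable (T : DeltaFunctor C D)

instance (n : ℕ) : (T.F n).Additive := T.additive n

lemma preservesFiniteLimits_zero : PreservesFiniteLimits (T.F 0) :=
  (T.F 0).preservesFiniteLimits_iff_forall_exact_map_and_mono.mpr
    fun _ hS => ⟨T.exact₂ hS 0 _, T.mono₁ hS⟩

section Resolution

variable {M : C} (I : InjectiveResolution M)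

lemma isIso_δ (k m : ℕ) : IsIso (T.δ (cycSES_shortExact I k) (m + 1)) := by
  have : Mono (T.δ (cycSES_shortExact I k) (m + 1)) :=
    (T.exact₃ (cycSES_shortExact I k) (m + 1)).mono_g
      ((T.isZero (I.cocomplex.X k) m).eq_of_src _ _)
  have : Epi (T.δ (cycSES_shortExact I k) (m + 1)) :=
    (T.exact₁ (cycSES_shortExact I k) (m + 1)).epi_f
      ((T.isZero (I.cocomplex.X k) (m + 1)).eq_of_tgt _ _)
  exact isIso_of_mono_of_epi _

lemma epi_δ (k : ℕ) : Epi (T.δ (cycSES_shortExact I k) 0) :=
  (T.exact₁ (cycSES_shortExact I k) 0).epi_f ((T.isZero (I.cocomplex.X k) 0).eq_of_tgt _ _)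

/-- Degree reached after `n` dimension shifts from degree `m + 1`. -/
def deg : ℕ → ℕ → ℕ
  | 0, m => m + 1
  | n + 1, m => deg n (m + 1)

lemma deg_eq (n m : ℕ) : deg n m = n + m + 1 := by
  induction n generalizing m with
  | zero => simp [deg]
  | succ n ih => rw [deg, ih]; omega

/-- Iterated dimension shifting `F^{m+1}(Z^n) ≅ F^{n+m+1}(Z^0)`. -/
def shiftIso : ∀ n m : ℕ,
    (T.F (m + 1)).obj (I.cocomplex.cycles n) ≅ (T.F (deg n m)).obj (I.cocomplex.cycles 0)
  | 0, _ => Iso.refl _
  | n + 1, m => @asIso _ _ _ _ (T.δ (cycSES_shortExact I n) (m + 1)) (isIso_δ T I n m) ≪≫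
      shiftIso n (m + 1)

lemma shiftIso_nat {M' : C} (I' : InjectiveResolution M') (φ : I.cocomplex ⟶ I'.cocomplex)
    (n : ℕ) : ∀ m : ℕ,
    (T.F (m + 1)).map (HomologicalComplex.cyclesMap φ n) ≫ (shiftIso T I' n m).hom =
      (shiftIso T I n m).hom ≫
        (T.F (deg n m)).map (HomologicalComplex.cyclesMap φ 0) := by
  induction n with
  | zero =>
    intro m
    exact (Category.comp_id _).trans (Category.id_comp _).symm
  | succ n ih =>
    intro m
    change _ ≫ (T.δ (cycSES_shortExact I' n) (m + 1) ≫ (shiftIso T I' n (m + 1)).hom) =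
      (T.δ (cycSES_shortExact I n) (m + 1) ≫ (shiftIso T I n (m + 1)).hom) ≫ _
    rw [← Category.assoc]
    erw [T.δ_nat (cycSES_shortExact I n) (cycSES_shortExact I' n) (cycSESMap φ n) (m + 1),
      Category.assoc, ih (m + 1), Category.assoc]
    rfl

/-- `F^0` of the cycles are the cycles of `F^0` of the complex. -/
def zeroCyclesIso (k : ℕ) :
    (T.F 0).obj (I.cocomplex.cycles k) ≅
      (((T.F 0).mapHomologicalComplex _).obj I.cocomplex).cycles k :=
  have := preservesFiniteLimits_zero T
  (KernelFork.mapIsLimit _ (cycIsKernel I.cocomplex k) (T.F 0)).conePointUniqueUpToIso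
    (cycIsKernel (((T.F 0).mapHomologicalComplex _).obj I.cocomplex) k)

@[reassoc]
lemma zeroCyclesIso_hom_iCycles (k : ℕ) :
    (zeroCyclesIso T I k).hom ≫ (((T.F 0).mapHomologicalComplex _).obj I.cocomplex).iCycles k =
      (T.F 0).map (I.cocomplex.iCycles k) :=
  IsLimit.conePointUniqueUpToIso_hom_comp _ _ WalkingParallelPair.zero

lemma map_toCycles (n : ℕ) :
    (T.F 0).map (I.cocomplex.toCycles n (n + 1)) ≫ (zeroCyclesIso T I (n + 1)).hom =
      (((T.F 0).mapHomologicalComplex _).obj I.cocomplex).toCycles n (n + 1) := by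
  rw [← cancel_mono ((((T.F 0).mapHomologicalComplex _).obj I.cocomplex).iCycles (n + 1))]
  refine (Category.assoc _ _ _).trans ((congrArg (_ ≫ ·) (zeroCyclesIso_hom_iCycles T I (n + 1))).trans ?_)
  refine ((T.F 0).map_comp _ _).symm.trans ((congrArg _ (I.cocomplex.toCycles_i n (n + 1))).trans ?_)
  exact ((((T.F 0).mapHomologicalComplex _).obj I.cocomplex).toCycles_i n (n + 1)).symm

/-- The sequence `F^0 I^n → Z^{n+1}(F^0 I) → F^1 Z^n`. -/
def toCyclesSC (n : ℕ) : ShortComplex D :=
  ShortComplex.mk ((((T.F 0).mapHomologicalComplex _).obj I.cocomplex).toCycles n (n + 1))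
    ((zeroCyclesIso T I (n + 1)).inv ≫ T.δ (cycSES_shortExact I n) 0)
    (by
      refine (congrArg (· ≫ _) (map_toCycles T I n).symm).trans ?_
      exact (Category.assoc _ _ _).trans ((congrArg (_ ≫ ·) (Iso.hom_inv_id_assoc _ _)).trans
        (T.map_g_δ (cycSES_shortExact I n) 0)))

lemma exact_toCycles_δ (n : ℕ) : (toCyclesSC T I n).Exact := by
  refine (ShortComplex.exact_iff_of_iso ?_).mp (T.exact₃ (cycSES_shortExact I n) 0)
  refine ShortComplex.isoMk (Iso.refl _) (zeroCyclesIso T I (n + 1)) (Iso.refl _) ?_ ?_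
  · exact (Category.id_comp _).trans (map_toCycles T I n).symm
  · exact (Iso.hom_inv_id_assoc _ _).trans (Category.comp_id _).symm

instance (n : ℕ) : Epi (toCyclesSC T I n).g :=
  @epi_comp _ _ _ _ _ _ inferInstance _ (epi_δ T I n)

/-- `H^{n+1}(F^0 I) ≅ F^1(Z^n)`. -/
def homologyIso (n : ℕ) :
    (((T.F 0).mapHomologicalComplex _).obj I.cocomplex).homology (n + 1) ≅
      (T.F 1).obj (I.cocomplex.cycles n) :=
  IsColimit.coconePointUniqueUpToIso
    ((((T.F 0).mapHomologicalComplex _).obj I.cocomplex).homologyIsCokernel n (n + 1) (by simp))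
    (exact_toCycles_δ T I n).gIsCokernel

lemma π_homologyIso (n : ℕ) :
    (((T.F 0).mapHomologicalComplex _).obj I.cocomplex).homologyπ (n + 1) ≫
        (homologyIso T I n).hom =
      (zeroCyclesIso T I (n + 1)).inv ≫ T.δ (cycSES_shortExact I n) 0 :=
  IsColimit.comp_coconePointUniqueUpToIso_hom
    ((((T.F 0).mapHomologicalComplex _).obj I.cocomplex).homologyIsCokernel n (n + 1) (by simp))
    (exact_toCycles_δ T I n).gIsCokernel WalkingParallelPair.one

lemma zeroCyclesIso_inv_nat {M' : C} (I' : InjectiveResolution M')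
    (φ : I.cocomplex ⟶ I'.cocomplex) (k : ℕ) :
    HomologicalComplex.cyclesMap (((T.F 0).mapHomologicalComplex _).map φ) k ≫
        (zeroCyclesIso T I' k).inv =
      (zeroCyclesIso T I k).inv ≫ (T.F 0).map (HomologicalComplex.cyclesMap φ k) := by
  rw [Iso.eq_inv_comp, ← Category.assoc, Iso.comp_inv_eq,
    ← cancel_mono ((((T.F 0).mapHomologicalComplex _).obj I'.cocomplex).iCycles k)]
  simp only [Category.assoc, HomologicalComplex.cyclesMap_i, zeroCyclesIso_hom_iCycles,
    zeroCyclesIso_hom_iCycles_assoc]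
  change (T.F 0).map (I.cocomplex.iCycles k) ≫ (T.F 0).map (φ.f k) =
    (T.F 0).map (HomologicalComplex.cyclesMap φ k) ≫ (T.F 0).map (I'.cocomplex.iCycles k)
  rw [← Functor.map_comp, ← Functor.map_comp, HomologicalComplex.cyclesMap_i]

lemma homologyIso_nat {M' : C} (I' : InjectiveResolution M') (φ : I.cocomplex ⟶ I'.cocomplex)
    (n : ℕ) :
    HomologicalComplex.homologyMap (((T.F 0).mapHomologicalComplex _).map φ) (n + 1) ≫
        (homologyIso T I' n).hom =
      (homologyIso T I n).hom ≫ (T.F 1).map (HomologicalComplex.cyclesMap φ n) := by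
  rw [← cancel_epi ((((T.F 0).mapHomologicalComplex _).obj I.cocomplex).homologyπ (n + 1)),
    HomologicalComplex.homologyπ_naturality_assoc, π_homologyIso]
  refine Eq.trans ?_ ((congrArg (· ≫ _) (π_homologyIso T I n)).symm.trans (Category.assoc _ _ _))
  refine Eq.trans ((Category.assoc _ _ _).symm.trans
    ((congrArg (· ≫ _) (zeroCyclesIso_inv_nat T I I' φ (n + 1))).trans (Category.assoc _ _ _))) ?_
  exact (congrArg ((zeroCyclesIso T I (n + 1)).inv ≫ ·)
    (T.δ_nat (cycSES_shortExact I n) (cycSES_shortExact I' n) (cycSESMap φ n) 0)).trans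
    (Category.assoc _ _ _).symm

/-- `M ≅ Z^0`. -/
def augIso : M ≅ I.cocomplex.cycles 0 :=
  I.isLimitKernelFork.conePointUniqueUpToIso (cycIsKernel I.cocomplex 0)

@[reassoc]
lemma augIso_hom_iCycles : (augIso I).hom ≫ I.cocomplex.iCycles 0 = I.ι.f 0 :=
  IsLimit.conePointUniqueUpToIso_hom_comp _ _ WalkingParallelPair.zero

/-- `F^{n+1}(M) ≅ H^{n+1}(F^0 I)`. -/
def objIso (n : ℕ) :
    (T.F (n + 1)).obj M ≅ (((T.F 0).mapHomologicalComplex _).obj I.cocomplex).homology (n + 1) :=
  (T.F (n + 1)).mapIso (augIso I) ≪≫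
    eqToIso (congrArg (fun k => (T.F k).obj (I.cocomplex.cycles 0)) (deg_eq n 0).symm) ≪≫
      (shiftIso T I n 0).symm ≪≫ (homologyIso T I n).symm

lemma map_eqToHom {a b : ℕ} (h : a = b) {X Y : C} (f : X ⟶ Y) :
    (T.F a).map f ≫ eqToHom (congrArg (fun k => (T.F k).obj Y) h) =
      eqToHom (congrArg (fun k => (T.F k).obj X) h) ≫ (T.F b).map f := by
  subst h; simp

lemma objIso_nat {M' : C} (I' : InjectiveResolution M') (f : M ⟶ M')
    (φ : I.cocomplex ⟶ I'.cocomplex) (comm : I.ι.f 0 ≫ φ.f 0 = f ≫ I'.ι.f 0) (n : ℕ) :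
    (T.F (n + 1)).map f ≫ (objIso T I' n).hom =
      (objIso T I n).hom ≫
        HomologicalComplex.homologyMap (((T.F 0).mapHomologicalComplex _).map φ) (n + 1) := by
  have haug : f ≫ (augIso I').hom = (augIso I).hom ≫ HomologicalComplex.cyclesMap φ 0 := by
    rw [← cancel_mono (I'.cocomplex.iCycles 0), Category.assoc, Category.assoc,
      HomologicalComplex.cyclesMap_i, augIso_hom_iCycles, augIso_hom_iCycles_assoc]
    exact comm.symm
  have h1 : HomologicalComplex.homologyMap (((T.F 0).mapHomologicalComplex _).map φ) (n + 1) =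
      (homologyIso T I n).hom ≫ (T.F 1).map (HomologicalComplex.cyclesMap φ n) ≫
        (homologyIso T I' n).inv := by
    rw [← Category.assoc, ← homologyIso_nat T I I' φ n, Category.assoc, Iso.hom_inv_id,
      Category.comp_id]
  have h2 : (shiftIso T I n 0).inv ≫ (T.F 1).map (HomologicalComplex.cyclesMap φ n) =
      (T.F (deg n 0)).map (HomologicalComplex.cyclesMap φ 0) ≫ (shiftIso T I' n 0).inv := by
    rw [Iso.inv_comp_eq, ← Category.assoc, Iso.eq_comp_inv]
    exact shiftIso_nat T I I' φ n 0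
  rw [h1]
  simp only [objIso, Iso.trans_hom, Iso.symm_hom, Functor.mapIso_hom, eqToIso.hom, Category.assoc,
    Iso.inv_hom_id_assoc]
  rw [← Functor.map_comp_assoc, haug, Functor.map_comp_assoc, reassoc_of% h2,
    ← reassoc_of% (map_eqToHom T (deg_eq n 0).symm (HomologicalComplex.cyclesMap φ 0))]

end Resolution

variable [EnoughInjectives C]

/-- Higher degrees of an effaceable δ-functor are right derived functors of degree zero. -/
def isoRightDerivedSucc (n : ℕ) : T.F (n + 1) ≅ (T.F 0).rightDerived (n + 1) :=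
  NatIso.ofComponents
    (fun M => objIso T (injectiveResolution M) n ≪≫
      ((injectiveResolution M).isoRightDerivedObj (T.F 0) (n + 1)).symm)
    (fun {M M'} f => by
      have comm := InjectiveResolution.desc_commutes_zero f (injectiveResolution M')
        (injectiveResolution M)
      rw [Iso.trans_hom, Iso.trans_hom, ← Category.assoc,
        objIso_nat T (injectiveResolution M) (injectiveResolution M') f
          (InjectiveResolution.desc f _ _) comm n, Category.assoc, Category.assoc]
      congr 1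
      exact ((injectiveResolution M).isoRightDerivedObj_inv_naturality f (injectiveResolution M')
        (InjectiveResolution.desc f _ _) comm (T.F 0) (n + 1)).symm)

/-- An effaceable δ-functor consists of the right derived functors of its degree zero part. -/
theorem nonempty_iso_rightDerived (n : ℕ) : Nonempty (T.F n ≅ (T.F 0).rightDerived n) := by
  cases n with
  | zero =>
    have := preservesFiniteLimits_zero T
    exact ⟨(Functor.rightDerivedZeroIsoSelf (T.F 0)).symm⟩
  | succ n => exact ⟨isoRightDerivedSucc T n⟩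

end

end Groth.Agent.UnivDelta
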