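import Groth.Agent.UnivDelta.Basic
import Mathlib.Algebra.Homology.ShortComplex.ShortExact

/-!
# Composites of δ-functors with exact functors
-/

universe v₁ v₂ v₃ u₁ u₂ u₃

open CategoryTheory Limits

namespace Groth.Agent.UnivDelta

variable {C : Type u₁} [Category.{v₁} C] [Abelian C] {D : Type u₂} [Category.{v₂} D] [Abelian D]

noncomputable section

namespace DeltaFunctor

variable (T : DeltaFunctor C D) {E : Type u₃} [Category.{v₃} E] [Abelian E]

/-- Postcomposition with an exact functor. -/
def post (H : D ⥤ E) [H.Additive] (hm : H.PreservesMonomorphisms)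
    (he : ∀ S : ShortComplex D, S.Exact → (S.map H).Exact) : DeltaFunctor C E where
  F n := T.F n ⋙ H
  additive n := have := T.additive n; inferInstance
  δ hS n := H.map (T.δ hS n)
  mono₁ hS := have := T.mono₁ hS; have := hm; H.map_mono _
  exact₂ {S} hS n w := he _ (T.exact₂ hS n (by
    have := T.additive n
    rw [← Functor.map_comp, S.zero, Functor.map_zero]))
  map_g_δ hS n := by
    change H.map _ ≫ H.map _ = 0
    rw [← Functor.map_comp, T.map_g_δ, H.map_zero]
  exact₃ hS n := he _ (T.exact₃ hS n)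
  δ_map_f hS n := by
    change H.map _ ≫ H.map _ = 0
    rw [← Functor.map_comp, T.δ_map_f, H.map_zero]
  exact₁ hS n := he _ (T.exact₁ hS n)
  δ_nat hS hS' φ n := by
    change H.map _ ≫ H.map _ = H.map _ ≫ H.map _
    rw [← Functor.map_comp, ← Functor.map_comp, T.δ_nat]
  isZero J _ n := H.map_isZero (T.isZero J n)

/-- Precomposition with an exact functor sending injectives to acyclic objects. -/
def pre (G : E ⥤ C) [G.Additive] (hG : ∀ S : ShortComplex E, S.ShortExact → (S.map G).ShortExact)
    (h : ∀ (J : E) [Injective J] (n : ℕ), IsZero ((T.F (n + 1)).obj (G.obj J))) :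
    DeltaFunctor E D where
  F n := G ⋙ T.F n
  additive n := have := T.additive n; inferInstance
  δ {S} hS n := T.δ (hG S hS) n
  mono₁ {S} hS := T.mono₁ (hG S hS)
  exact₂ {S} hS n w := T.exact₂ (hG S hS) n _
  map_g_δ {S} hS n := T.map_g_δ (hG S hS) n
  exact₃ {S} hS n := T.exact₃ (hG S hS) n
  δ_map_f {S} hS n := T.δ_map_f (hG S hS) n
  exact₁ {S} hS n := T.exact₁ (hG S hS) n
  δ_nat {S S'} hS hS' φ n := T.δ_nat (hG S hS) (hG S' hS') (G.mapShortComplex.map φ) n
  isZero J _ n := h J n

end DeltaFunctor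

/-- Right derived functors of isomorphic functors. -/
def derivedIso [EnoughInjectives C] {F G : C ⥤ D} [F.Additive] [G.Additive] (α : F ≅ G) (i : ℕ) :
    F.rightDerived i ≅ G.rightDerived i where
  hom := NatTrans.rightDerived α.hom i
  inv := NatTrans.rightDerived α.inv i
  hom_inv_id := by rw [← NatTrans.rightDerived_comp, α.hom_inv_id, NatTrans.rightDerived_id]
  inv_hom_id := by rw [← NatTrans.rightDerived_comp, α.inv_hom_id, NatTrans.rightDerived_id]

/-- Effaceable δ-functors agreeing in degree zero agree in all degrees. -/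
theorem nonempty_iso_of_zero [EnoughInjectives C] (T T' : DeltaFunctor C D)
    (α : T.F 0 ≅ T'.F 0) (n : ℕ) : Nonempty (T.F n ≅ T'.F n) := by
  obtain ⟨e⟩ := nonempty_iso_rightDerived T n
  obtain ⟨e'⟩ := nonempty_iso_rightDerived T' n
  exact ⟨e ≪≫ derivedIso α n ≪≫ e'.symm⟩

end

end Groth.Agent.UnivDelta
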